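/-
A Sylow 3-subgroup of `Cfsg.M24` as a list, with conjugators for its elements of order three.
-/
import Cfsg.Agent.Lib.Spor.SylowList

namespace CfsgLib.Spor

open scoped Pointwise

/-- Generators. -/
def sylThreeGens : List ℕ := [0xbb5135bdd63160aa1ea964a2418820, 0x885135aa17ab409a18ef64ac220cae]

/-- The members. -/
def sylThreeW : ℕ :=
  0xb4d49b0b6546085a5f2a9dc418817040f49a1cd496d25bd4c3562418ae10d9eba1dd0615b59a2464aa24188170354ba563643a069c9877a4a418ae1b394ba1c2595e359b1067a403111b06c52ba540e604a69a24753ee3112162dd4ba1a00634279a2557a6c220dd10c2535aa2d3bac9a54cf430a418817059935a4b0ac5afa18ea921c418ae1b15135a411385cfa54ca64ae3111b06ba535bee5a822aa18e94302311216282535a6c1342efa1eaa431a220dd1845935a82e35ca9a1eaf92003112cd75d935bda03d82aa54c99220220e25b44d49caee480ac5bd48a9c23111b0694f49b0317ddc85a9323540311216286b49b1b74d8085bd5239a0220dd183ab49a005506325a5ec39ae3112cd700d49a2017b6f25a92ca9ec220e258dcf49cac05402c5a5e8355a220cae815eba1af1401c79c9954a823112cd7052ba1ed7440159c98653da220e25881eba55a195ae69b1074aa0220caebc12ba18ad946c79b11553dc418820885135aa17ab409a18ef64ac220caebb5135bdd63160aa1ea964a2418820bdab49ca307b9ac5a928398a418820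

/-- Left multiplication. -/
def sylThreeQ : ℕ :=
  0xf0013000d0012000a001a00080019001a000b00190009000c000700140018000500170018001500170006001600040003001600150014001300100012000e00110002000100110010000f000e000d0000000c000b000a0009000800070000000600050004000300020001

/-- The spanning tree. -/
def sylThreePar : ℕ :=
  0x101600101500101100101000000e00100d00000d00100c00100b000009001008000008001007000007000006001005000005001004000004001003001002000002001001000001001000000000000000

/-- The sorting. -/
def sylThreeS : ℕ :=
  0x30001000c00160011000700020004000e00090006000d0005000800150010000b0014000a000f00180013001a001200190017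

/-- Conjugators. -/
def sylThreeC : ℕ :=
  0x41e4402eca8c194138b333db718535ab0c304caa844f4136cb93dd72052848253a16c47b6e65b1ca89e0208ea87a60c3b44888eb45596e2cc80b8646736323068cb01775410f2d52410e67bbaab9bda595a2aa310939a0320820abc4652e172b41690e640d10961dd1855e7618488812b54a8574c83b86cd40da692a77b50907b8f16156008aa95d132544a1255e33320715e60735164264e6aaa131df7046745c0a2192cc254b49d9eeb80705a42c3c446549a8bcd85b0971ac1c908cef221a692a808deaa312c91402893c0d1b9945cca7b3521b9211638c311d40456535d1e593281239b6b99e5100719ad554260741ee01c8b55aa2f14e860912db418e4c482bce15939b403ccb08d07628b6a31e30a0b1bcd7500889918f6835ca5cd97192856ba420c2c051cc9455f18b5e50b2f0ad164b1c6812412519d3bd86d728b0445620488f3566c3a43452013a34d67564c59c64124b08dc2fbbaab9bda595a2aa310939a0320820bdab49ca307b9ac5a928398a418820bdab49ca307b9ac5a928398a418820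

/-- Class representatives, fixing [0, 6] points. -/
def sylThreeReps : List ℕ := [0x885135aa17ab409a18ef64ac220cae, 0xbb5135bdd63160aa1ea964a2418820]

theorem sylThree_rows0 : listRows sylThreeGens sylThreeW sylThreeQ sylThreePar 27 (64 * 0) (min 64 (27 - 64 * 0)) = true := by decide +kernel

theorem sylThree_list : ListedOk sylThreeGens sylThreeW sylThreeQ sylThreePar 27 := by
  refine listedOk_of_rows (len := 64) (by norm_num) (by decide +kernel) (by decide +kernel) (by norm_num) fun j hj => ?_
  interval_cases j
  · exact sylThree_rows0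

theorem sylThree_distinct : distinctCheck 120 sylThreeW sylThreeS 27 = true := by decide +kernel

/-- The members of order 3. -/
def sylThreeEls : List ℕ := [1, 2, 3, 4, 5, 6, 7, 8, 9, 10, 11, 12, 13, 14, 15, 16, 17, 18, 19, 20, 21, 22, 23, 24, 25, 26]

theorem sylThree_sel0 : selectCheck 3 sylThreeW (32 * 0) (min 32 (27 - 32 * 0)) sylThreeEls = true := by decide +kernel

theorem sylThree_wit0 : witnessCheck sylThreeW sylThreeC sylThreeEls sylThreeReps (32 * 0) (min 32 (26 - 32 * 0)) = true := by decide +kernel

theorem sylThree_classes : ClassesOk 3 sylThreeW sylThreeC 27 sylThreeEls sylThreeReps := by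
  have hl : sylThreeEls.length = 26 := by decide +kernel
  refine classesOk_of_chunks (len := 32) (by norm_num) (fun j hj => ?_) fun j hj => ?_
  · interval_cases j
    · exact sylThree_sel0
  · rw [hl] at hj ⊢
    interval_cases j
    · exact sylThree_wit0

end CfsgLib.Spor
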